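set_option autoImplicit false
namespace Cfsg.Agent.Lib.Helper6.TCD.U62E
noncomputable def NC (i : Nat) : Nat := Nat.land (Nat.shiftRight 0x80005c000000000000000000017000000000000000040005800000000000000000001500000000000000004000500000000000000005000130000000000000000400048000000000000000500011000000000000000180004000000000000000050000e000000000000000180003400000000000000040000d000000000000000140003000000000000000060000b0000000000000000c0002c0000000000000006000090000000000000000800024000000000000000600007000000000000000040001c0000000000000006000060000000000000001400014000000000000000500004000000000000000000001000000000000000010000300000000000000008000080000000000000003000010000000000000001000000000000000000000000000 (Nat.mul 86 (Nat.land i 511))) 77371252455336267181195263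
end Cfsg.Agent.Lib.Helper6.TCD.U62E
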