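set_option autoImplicit false
namespace Cfsg.Agent.Lib.Helper6.TCD.U62E
noncomputable def SC (i : Nat) : Nat := Nat.land (Nat.shiftRight 0x240080008802000200080007802000000040004c020000900800048020001000800000040000c00800000040000800800000010001c00800068020001800800058020003300800000010000001000048020001000800038020000001000028020000800800000010001c008000680200000010000580200000000000000100000000000c00200000004000ac02000270080008402000000000003c020001c008000680200018008000000400014008000000100000000000c002000000040000004000270080008402000000000003c020000000400000000002d008000a402000230080006c0200011008000c00200000004000ac02000000100008402000000000003c0200000004000000000000010000a402000230080006c020001100800000000002c0080000001000250080007c020001700800034020003000800000010002b0080009c020000001000064020000f008000000100000000000b402000000100008c020001b008000440200000000000a0020000000000000010001d00800054020000b008000000100000000000b4020002900800000040001b0080004402000000000008802000200080000000000000040004c020000900800000010002f008000b402000290080008c020000001000044020000000000068020001800800058020000000000000010000700800000010002f008000b402000290080008c020001b00800000040000000000000010002b0080009c020002100800000000000f008000000000000004000ac020002700800084020001900800000040001200800000000000e00800030020000a008000200200000004000700200000000000600200016008000500200000004000000000024008000880200020008000780200000004000000000009008000a802000280080009802000000040000000000150080002c020002e008000b0020000000400000000001f0080005c020000d008001100200043008000000000042008001040200040008000fc02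 (Nat.mul 30 (Nat.land i 1023))) 1073741823
end Cfsg.Agent.Lib.Helper6.TCD.U62E
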