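set_option autoImplicit false
namespace Cfsg.Agent.Lib.Helper6.TCD.U62E
noncomputable def SH (i : Nat) : Nat := Nat.land (Nat.shiftRight 0x186000360003080006c000600000d0000bf0001b0001760002e0002f80006c0005e0000c8000b70001a00016c000340003040006c0005a0000c0000b900019000166000340002c80005c000580000c8000af0001900015a0002e0002b0000640005c0000d0000ab0001600017a000360002a400060000540000c0000a70001800016a0003400029800060000528000c0000a4000150001440002e0002840005c000570000c80009f000150001740003600027800050000588000d00009c0001600012c00026000268000500004c8000b000098000160001540003200025c000580004a0000a800093000150001240002a0002800005c000488000a800090000120001460003000023800050000448000880009b000160001180002400022c000500004e8000b80008a0001400010200020000254000580004300008800085000130001080002600020c0004c000410000980007f000120000f40001c0001f800048000468000a00007c0000f00011e0002a0001ec0004800039800068000880001400010e000260001dc000380003b00008800075000110000e8000220002000004c000388000800006c0000d0000e0000200001bc00040000370000800006d000100000d40001e0001940003000034800078000680000f0000fa0002400019c0003c000330000780005e0000b0000f20002400018c000380003c000088000610000c0000c00001c00017c00038000390000880005c0000d0000d6000200001600002c0002d8000680005a0000d0000b20001a0001440002400032000078000560000c0000aa000180001880003800029800050000520000c0000ba0001c00013c0002c00027000058000570000d00009600012000134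0002c000260000580004300007000092000140001200002800023800050000460000a0000a80001800011000020000280000600004100009000080000120000fc00024000250000580003d0000700007c000120000d8000180001d8000400003a00008000072000100000e0000200001b800040000450000a000084000140000bc000140001a00003800033000070000640000e0000f000024000180000300003500008000052000080000b400018000160000300002b000060000540000c0000c40001c000138000280002e0000700004c0000a000094000140001200002800023000050000440000800008000010000140000300001f0000400003c00008000074000100000e0000180002100005000034000060000640000c0000c000018000170000300002a0000400006c000100000b000018000130000200002400004000044000080000700000800014000030000200000400003c00008000060000080000b0000100000e000000000340000800005000008000090000100001000002000014000000000200000000006000010000060000000000800000000008000000000000000 (Nat.mul 43 (Nat.land i 1023))) 8796093022207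
end Cfsg.Agent.Lib.Helper6.TCD.U62E
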